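import Groth.Agent.TorusQuotLib.Laurent
import Groth.Agent.SemiAbLib.TorusOrGa
import Groth.Agent.SemiAbLib.Torus
import Groth.Agent.AntiAffLib.KerSub
import Groth.Agent.AntiAffLib.AffineQuot
import Groth.Agent.AntiAffLib.Descend
import Groth.Agent.AntiAffLib.Image
import Groth.Agent.AntiAffLib.CommCat
import Groth.Agent.DenseSubLib.Basic
import Groth.Agent.ChevThmLib.PtSub
import Groth.Agent.CommSubLib.Main
import Groth.Agent.S3030

/-!
The largest torus quotient of a connected group and its kernel.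
-/

set_option autoImplicit false
set_option linter.style.haveILetI false
set_option backward.isDefEq.respectTransparency false
set_option maxHeartbeats 2000000

noncomputable section

universe u

open CategoryTheory CategoryTheory.Limits MonoidalCategory CartesianMonoidalCategory AlgebraicGeometry
open scoped MonObj
open Groth.Agent CoactBr AVAmpleLib

attribute [-instance] CategoryTheory.Hom.commGroup

namespace TorusQuotLib

variable {k : Type u} [Field k] [IsAlgClosed k]

local notation "𝔾ₘ" => Red.Gm (Spec (CommRingCat.of k))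
local notation "𝔾ₐ" => Red.Ga (Spec (CommRingCat.of k))

/-- The coordinate ring of a split torus. -/
abbrev LT (k : Type u) [Field k] (r : ℕ) : Over (Spec (CommRingCat.of k)) :=
  sp k (MonoidAlgebra k (Multiplicative (Fin r → ℤ)))

theorem isTorus_LT (r : ℕ) : Red.IsTorus (LT k r) := by
  obtain ⟨w, hw, -⟩ := TorusField.exists_DS_iso k (Fin r → ℤ)
  haveI := hw
  exact SemiAbLib.isTorus_of_iso (LT k r) w

theorem props_LT (r : ℕ) : LocallyOfFiniteType (LT k r).hom ∧ IsReduced (LT k r).left := by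
  haveI : Algebra.FiniteType k (MonoidAlgebra k (Multiplicative (Fin r → ℤ))) :=
    MonoidAlgebra.finiteType_iff_group_fg.2 inferInstance
  haveI : IsDomain (MonoidAlgebra k (Multiplicative (Fin r → ℤ))) := inferInstance
  exact ⟨(HasRingHomProperty.Spec_iff (P := @LocallyOfFiniteType)).2 (RingHom.finiteType_algebraMap.2 inferInstance),
    inferInstanceAs (IsReduced (Spec (CommRingCat.of (MonoidAlgebra k (Multiplicative (Fin r → ℤ))))))⟩

/-- Maps from the affine line to a torus are constant. -/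
theorem ga_to_torus {T : Over (Spec (CommRingCat.of k))} [GrpObj T] (hT : Red.IsTorus T) (f : 𝔾ₐ ⟶ T) :
    f = toUnit _ ≫ η[𝔾ₐ] ≫ f := by
  obtain ⟨g, hg⟩ := SemiAbLib.torus_const hT (SemiAbLib.units_symm (k := k) k)
    (SymmetricAlgebra.lift (0 : k →ₗ[k] k)) (SemiAbLib.toGa k ≫ f)
  have h1 : f = toUnit _ ≫ g := by
    rw [← cancel_epi (SemiAbLib.toGa k), hg, ← Category.assoc, toUnit_unique (SemiAbLib.toGa k ≫ toUnit _) (toUnit _)]
  have h2 : η[𝔾ₐ] ≫ f = g := by
    rw [h1, ← Category.assoc, toUnit_unique (η[𝔾ₐ] ≫ toUnit _) (𝟙 _), Category.id_comp]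
  rw [h2]
  exact h1

/-- A homomorphism onto a split torus with independent characters is flat and surjective. -/
theorem flat_surjective {G : Over (Spec (CommRingCat.of k))} [GrpObj G] [Smooth G.hom] [QuasiCompact G.hom]
    {r : ℕ} (q : G ⟶ LT k r) [IsMonHom q] (hinj : Function.Injective (coordOf q)) :
    Flat q.left ∧ Surjective q.left := by
  haveI : LocallyOfFiniteType G.hom := inferInstance
  obtain ⟨hft, hred⟩ := props_LT (k := k) r
  haveI := hft; haveI := hred
  haveI : IsSeparated (LT k r).hom := GrpField.isSeparated_grp (G := LT k r)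
  haveI : QuasiCompact q.left := by
    haveI : QuasiCompact (q.left ≫ (LT k r).hom) := by rw [Over.w q]; infer_instance
    exact QuasiCompact.of_comp q.left (LT k r).hom
  haveI : Flat G.hom := GrpField.flat_field _
  obtain ⟨C, _, p, i, hp, hi, hpi, hpf, hps, -, hic⟩ := GrpHom.exists_fppf_image q (GrpField.flat_field _)
  haveI := hps; haveI := hic
  have h := injective_fnOf G q hinj
  haveI : IsAffine (LT k r).left := inferInstanceAs (IsAffine (Spec (CommRingCat.of _)))
  haveI : IsAffine C.left := isAffine_of_isAffineHom i.left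
  have hinj' : Function.Injective i.left.appTop := by
    intro x y hxy
    obtain ⟨a, rfl⟩ : ∃ a, (Scheme.ΓSpecIso (CommRingCat.of _)).inv a = x :=
      (Scheme.ΓSpecIso (CommRingCat.of (MonoidAlgebra k (Multiplicative (Fin r → ℤ))))).symm.commRingCatIsoToRingEquiv.surjective x
    obtain ⟨b, rfl⟩ : ∃ b, (Scheme.ΓSpecIso (CommRingCat.of _)).inv b = y :=
      (Scheme.ΓSpecIso (CommRingCat.of (MonoidAlgebra k (Multiplicative (Fin r → ℤ))))).symm.commRingCatIsoToRingEquiv.surjective y
    refine congrArg _ (h ?_)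
    show q.left.appTop _ = q.left.appTop _
    rw [← hpi, Over.comp_left, Scheme.Hom.comp_appTop]
    exact congrArg p.left.appTop hxy
  haveI : IsIso i.left.appTop := by
    refine (ConcreteCategory.isIso_iff_bijective _).2 ⟨hinj', ?_⟩
    exact (IsClosedImmersion.isAffine_surjective_of_isAffine i.left).2
  haveI : IsIso i.left := by
    have e : i.left = C.left.isoSpec.hom ≫ Spec.map i.left.appTop ≫ (LT k r).left.isoSpec.inv := by
      rw [Scheme.isoSpec_hom_naturality_assoc, Iso.hom_inv_id, Category.comp_id]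
    rw [e]
    infer_instance
  haveI : Surjective q.left := by rw [← hpi, Over.comp_left]; infer_instance
  exact ⟨AntiAffLib.flat_of_surjective q, inferInstance⟩

/-- An extension of a torus without additive groups killed is a torus. -/
theorem isTorus_of_no_ga {P T : Over (Spec (CommRingCat.of k))} [GrpObj P] [GrpObj T] [IsCommMonObj P] [Smooth P.hom]
    [ConnectedSpace P.left] [IsAffine P.left] (hT : Red.IsTorus T) (π : P ⟶ T) [IsMonHom π]
    (h : ∀ j : 𝔾ₐ ⟶ P, IsMonHom j → IsClosedImmersion j.left → j ≫ π = 1 → False) : Red.IsTorus P := by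
  rcases SemiAbLib.isTorus_or_exists_ga P with h' | ⟨j, hj, hjc⟩
  · exact h'
  · exfalso
    haveI := hj
    refine h j hj hjc ?_
    rw [ga_to_torus hT (j ≫ π), IsMonHom.one_hom, MonObj.one_eq_one, MonObj.comp_one]

/-- A torus quotient between the group and the universal one is the universal one. -/
theorem mono_of_universal {G P : Over (Spec (CommRingCat.of k))} [GrpObj G] [GrpObj P] [Smooth G.hom]
    [QuasiCompact G.hom] {r : ℕ} (q : G ⟶ LT k r) [IsMonHom q] (hinj : Function.Injective (coordOf q))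
    (huniv : ∀ χ : Γ(G.left, ⊤), IsUnit χ → RosenUnit.pull η[G] χ = 1 → ∃ m, coordOf q m = χ)
    (hP : Red.IsTorus P) (f : G ⟶ P) [IsMonHom f] [Epi f] (π : P ⟶ LT k r) (hπ : f ≫ π = q) :
    Mono π := by
  obtain ⟨hqf, hqs⟩ := flat_surjective q hinj
  obtain ⟨hft, -⟩ := props_LT (k := k) r
  haveI := hft; haveI := hqf; haveI := hqs
  haveI : LocallyOfFiniteType G.hom := inferInstance
  obtain ⟨s, v, hv, hv'⟩ := SemiAbLib.exists_laurent_iso hP
  haveI := hv'
  have h : ∀ m, ∃ n, coordOf q n = coordOf (f ≫ v.inv) m := fun m =>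
    huniv _ (isUnit_coordOf _ m) (coord_hom (f ≫ v.inv) m).1
  choose φ hφ using h
  let φ' : Multiplicative (Fin s → ℤ) →* Multiplicative (Fin r → ℤ) :=
    MonoidHom.mk' φ fun a b => hinj (by rw [hφ, map_mul, map_mul, hφ, hφ])
  obtain ⟨σ, hσ⟩ := exists_coordOf ((coordOf (𝟙 (LT k r))).comp φ')
  have h1 : q ≫ σ = f ≫ v.inv := coordOf_ext fun m => by
    rw [coordOf_comp, hσ, MonoidHom.comp_apply, ← coordOf_comp, Category.comp_id]
    exact hφ m
  have h2 : π ≫ σ ≫ v.hom = 𝟙 P := by
    rw [← cancel_epi f, reassoc_of% hπ, reassoc_of% h1, v.inv_hom_id]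
  exact ⟨fun a b hab => by
    have h3 := congrArg (· ≫ σ ≫ v.hom) hab
    simpa only [Category.assoc, h2, Category.comp_id] using h3⟩

variable {G : Over (Spec (CommRingCat.of k))} [GrpObj G]

/-- A torus quotient which no torus quotient lies strictly above. -/
def IsUnivTorus {T₀ : Over (Spec (CommRingCat.of k))} (q : G ⟶ T₀) : Prop :=
  ∀ (P : Over (Spec (CommRingCat.of k))) [GrpObj P], Red.IsTorus P → ∀ f : G ⟶ P, IsMonHom f → Epi f →
    ∀ π : P ⟶ T₀, f ≫ π = q → Mono π

/-- The commutator map. -/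
def comm' (G : Over (Spec (CommRingCat.of k))) [GrpObj G] : G ⊗ G ⟶ G :=
  fst G G * snd G G * (fst G G)⁻¹ * (snd G G)⁻¹

/-- A quotient through which commutators die is commutative. -/
theorem isComm_of_comm' {P : Over (Spec (CommRingCat.of k))} [GrpObj P] [LocallyOfFiniteType G.hom]
    [LocallyOfFiniteType P.hom] (r : G ⟶ P) [IsMonHom r] [Flat r.left] [Surjective r.left]
    (h : comm' G ≫ r = 1) : IsCommMonObj P := by
  haveI := AntiAffLib.lfp_of_lft r
  obtain ⟨f1, f2, f3⟩ := Groth.Agent.MonoQuot.fppf_tensor r r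
  haveI := f1; haveI := f2; haveI := f3
  haveI := Groth.Agent.MonoQuot.epi_over (r ⊗ₘ r)
  have h1 : (fst G G ≫ r) * (snd G G ≫ r) = (snd G G ≫ r) * (fst G G ≫ r) := by
    simp only [comm', MonObj.mul_comp, GrpObj.inv_comp] at h
    rwa [mul_assoc, ← mul_inv_rev, mul_inv_eq_one] at h
  refine ⟨?_⟩
  rw [← cancel_epi (r ⊗ₘ r), MonObj.mul_eq_mul P, MonObj.comp_mul, MonObj.comp_mul, MonObj.comp_mul]
  simp only [braiding_hom_fst, braiding_hom_snd, tensorHom_fst, tensorHom_snd]
  exact h1.symm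

variable [Smooth G.hom] [QuasiCompact G.hom] [ConnectedSpace G.left]

/-- The step shared by both uses: a normal subgroup between which no additive group fits. -/
theorem kernel_le {T₀ : Over (Spec (CommRingCat.of k))} [GrpObj T₀] [LocallyOfFiniteType T₀.hom]
    (hT₀ : Red.IsTorus T₀) (q : G ⟶ T₀) [IsMonHom q] (huniv : IsUnivTorus q)
    {N : Over (Spec (CommRingCat.of k))} [GrpObj N] (n : N ⟶ G) [IsMonHom n] [IsClosedImmersion n.left]
    (hn : AlgGrp.IsNormalHom n) (hnq : n ≫ q = 1) (hc : ∃ l, l ≫ n = comm' G)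
    (hant : ∃ l, l ≫ n = AntiAffLib.kerIncl G)
    (hga : ∀ (P : Over (Spec (CommRingCat.of k))) [GrpObj P] [LocallyOfFiniteType P.hom] (f : G ⟶ P), IsMonHom f → Flat f.left →
      Surjective f.left → AlgGrp.IsKernel n f → ∀ j : 𝔾ₐ ⟶ P, IsMonHom j → IsClosedImmersion j.left →
      (∀ (S : Over (Spec (CommRingCat.of k))) (e₁ : S ⟶ G) (e₂ : S ⟶ 𝔾ₐ), e₁ ≫ f = e₂ ≫ j → e₁ ≫ q = 1) → False)
    {S : Over (Spec (CommRingCat.of k))} (a : S ⟶ G) (ha : a ≫ q = 1) : ∃ l, l ≫ n = a := by
  haveI : LocallyOfFiniteType G.hom := inferInstance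
  haveI : IsSeparated G.hom := GrpField.isSeparated_grp (G := G)
  haveI : LocallyOfFiniteType N.hom := by rw [← Over.w n]; infer_instance
  haveI : Flat N.hom := GrpField.flat_field _
  haveI : Flat G.hom := GrpField.flat_field _
  haveI : QuasiCompact n.left := inferInstance
  haveI : Mono n := Over.mono_of_mono_left n
  obtain ⟨P, _, f, hfm, hff, hfs, hfl, hk, hPsep, -, hPsm⟩ := Groth.Agent.S3030.result k N G n hn
  haveI := hfm; haveI := hff; haveI := hfs; haveI := hfl; haveI := hPsep
  haveI := hPsm inferInstance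
  haveI : Epi f := Groth.Agent.MonoQuot.epi_over f
  haveI : ConnectedSpace P.left := f.left.surjective.connectedSpace f.left.continuous
  obtain ⟨l₁, hl₁⟩ := hc
  haveI : IsCommMonObj P := isComm_of_comm' f (by rw [← hl₁, Category.assoc, AntiAffLib.kernel_comp hk, MonObj.comp_one])
  obtain ⟨π, hπ, hπm⟩ := AntiAffLib.CommCat.exists_descend f q fun T b hb => by
    obtain ⟨t, rfl⟩ := AntiAffLib.exists_lift_kernel hk b hb
    rw [Category.assoc, hnq, MonObj.comp_one]
  haveI := hπm
  obtain ⟨l₂, hl₂⟩ := hant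
  haveI : IsAffine P.left := by
    obtain ⟨g, hg, hgm⟩ := AntiAffLib.CommCat.exists_descend (AntiAffLib.toHull G) f fun T b hb => by
      obtain ⟨t, rfl⟩ := AntiAffLib.exists_lift G b hb
      rw [Category.assoc, ← hl₂, Category.assoc, AntiAffLib.kernel_comp hk, MonObj.comp_one, MonObj.comp_one]
    haveI := hgm
    haveI : Surjective g.left := by
      haveI : Surjective ((AntiAffLib.toHull G).left ≫ g.left) := by rw [← Over.comp_left, hg]; infer_instance
      exact Surjective.of_comp (AntiAffLib.toHull G).left g.left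
    haveI : IsReduced P.left := AlgSpLib.isReduced_of_smooth P.hom
    haveI : QuasiCompact (AntiAffLib.hull G).hom := by
      haveI : IsAffineHom (AntiAffLib.hull G).hom := isAffineHom_of_isAffine _
      infer_instance
    haveI : Flat g.left := AntiAffLib.flat_of_surjective g
    exact AntiAffLib.isAffine_of_surjective_hom g
  have hP : Red.IsTorus P := isTorus_of_no_ga hT₀ π fun j hj hjc hjπ =>
    hga P f hfm hff hfs hk j hj hjc fun S e₁ e₂ he => by
      rw [← hπ, reassoc_of% he, hjπ, MonObj.comp_one]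
  haveI := huniv P hP f hfm inferInstance π hπ
  refine AntiAffLib.exists_lift_kernel hk a ?_
  rw [← cancel_mono π, Category.assoc, hπ, ha, MonObj.one_comp]

/-- A morphism from the product of a connected group with itself that is one on the axes, to the multiplicative
group, is one. -/
theorem gm_axes {X : Over (Spec (CommRingCat.of k))} [GrpObj X] [LocallyOfFiniteType X.hom] [IsReduced X.left]
    [PreconnectedSpace X.left] (F : G ⊗ X ⟶ 𝔾ₘ) (h1 : lift (𝟙 G) (1 : G ⟶ X) ≫ F = 1)
    (h2 : lift (1 : X ⟶ G) (𝟙 X) ≫ F = 1) : F = 1 := by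
  haveI : LocallyOfFiniteType G.hom := inferInstance
  haveI : IsReduced G.left := AlgSpLib.isReduced_of_smooth G.hom
  refine GmPts.gmFn_injective ?_
  show Red.gmFn _ = Red.gmFn _
  rw [GmPts.gmFn_one]
  refine RosenUnit.eq_one_of_axes η[G] η[X] (GmPts.isUnit_gmFn F) ?_ ?_
  · rw [← Hom.one_def]
    show (lift (𝟙 G) (1 : G ⟶ X)).left.appTop (Red.gmFn F) = 1
    rw [← GmPts.gmFn_comp, h1, GmPts.gmFn_one]
  · rw [← Hom.one_def]
    show (lift (1 : X ⟶ G) (𝟙 X)).left.appTop (Red.gmFn F) = 1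
    rw [← GmPts.gmFn_comp, h2, GmPts.gmFn_one]

/-- The points of a torus commute. -/
def commGrpPts {T₀ : Over (Spec (CommRingCat.of k))} [GrpObj T₀] (hT₀ : Red.IsTorus T₀)
    (S : Over (Spec (CommRingCat.of k))) : CommGroup (S ⟶ T₀) :=
  { (inferInstance : Group (S ⟶ T₀)) with
    mul_comm := fun a b => by
      obtain ⟨r, v, hv, hv'⟩ := SemiAbLib.exists_laurent_iso hT₀
      haveI := hv'
      have h : ∀ a b : S ⟶ LT k r, a * b = b * a := fun a b =>
        coordOf_ext fun m => by rw [coordOf_mul, coordOf_mul, mul_comm]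
      have h' : (a * b) ≫ v.inv = (b * a) ≫ v.inv := by rw [MonObj.mul_comp, MonObj.mul_comp]; exact h _ _
      exact (cancel_mono v.inv).1 h' }

/-- The multiplicative group has no nonconstant maps from the additive group. -/
theorem ga_gm (g₁ : 𝔾ₐ ⟶ 𝔾ₘ) : g₁ = toUnit _ ≫ η[𝔾ₐ] ≫ g₁ := by
  obtain ⟨w, hw, hw'⟩ := TorusField.exists_DS_iso k ℤ
  refine GmPts.gmFn_injective ?_
  show Red.gmFn _ = Red.gmFn _
  obtain ⟨u, hu⟩ := GmPts.isUnit_gmFn (SemiAbLib.toGa k ≫ g₁)
  obtain ⟨c, hc⟩ : ∃ c, SemiAbLib.fnHom k c = Red.gmFn (SemiAbLib.toGa k ≫ g₁) := by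
    let e := (Scheme.ΓSpecIso (CommRingCat.of (SymmetricAlgebra k k)))
    obtain ⟨c, hc⟩ := SemiAbLib.units_symm (k := k) k (e.hom (Red.gmFn (SemiAbLib.toGa k ≫ g₁)))
      ((GmPts.isUnit_gmFn (SemiAbLib.toGa k ≫ g₁)).map e.hom.hom)
    refine ⟨c, ?_⟩
    show ((Scheme.ΓSpecIso (CommRingCat.of k)).inv ≫ Scheme.Hom.appTop (Spec.map (CommRingCat.ofHom (algebraMap k (SymmetricAlgebra k k))))) c = _
    rw [← Scheme.ΓSpecIso_inv_naturality]
    show e.inv (algebraMap k _ c) = _
    rw [hc]
    exact congrArg (fun ψ => (ConcreteCategory.hom ψ) (Red.gmFn (SemiAbLib.toGa k ≫ g₁))) e.hom_inv_id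
  have h1 : Red.gmFn g₁ = SemiAbLib.fnHom k c := by
    have h := congrArg (inv (SemiAbLib.toGa k)).left.appTop hc
    rw [SemiAbLib.fnHom_natural, ← GmPts.gmFn_comp, IsIso.inv_hom_id_assoc] at h
    exact h.symm
  rw [GmPts.gmFn_comp, GmPts.gmFn_comp, h1, SemiAbLib.fnHom_natural, SemiAbLib.fnHom_natural]

/-- No additive group in a quotient by a subgroup with the range of the identity component. -/
theorem ga_finite {H N P : Over (Spec (CommRingCat.of k))} [GrpObj H] [GrpObj N] [GrpObj P] [LocallyOfFiniteType H.hom]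
    [QuasiCompact H.hom] [LocallyOfFiniteType G.hom] [LocallyOfFiniteType P.hom] (h : H ⟶ G) [IsMonHom h] (n₀ : N ⟶ H)
    [IsClosedImmersion n₀.left] (hr : Set.range n₀.left = GrpField.Z0 H) (f : G ⟶ P) [IsMonHom f] [Surjective f.left]
    (hk : AlgGrp.IsKernel (n₀ ≫ h) f) (j : 𝔾ₐ ⟶ P) (hjc : IsClosedImmersion j.left)
    (hj : ∀ (S : Over (Spec (CommRingCat.of k))) (e₁ : S ⟶ G) (e₂ : S ⟶ 𝔾ₐ), e₁ ≫ f = e₂ ≫ j → ∃ l, l ≫ h = e₁) :
    False := by
  let I₀ := 𝟙_ (Over (Spec (CommRingCat.of k)))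
  haveI : Mono j.left := inferInstance
  haveI : Mono j := Over.mono_of_mono_left j
  -- lifts of the points of the additive group
  have hlift : ∀ a : I₀ ⟶ 𝔾ₐ, ∃ x : I₀ ⟶ H, x ≫ h ≫ f = a ≫ j := by
    intro a
    let E := pullback f (a ≫ j)
    haveI : Surjective (pullback.snd f (a ≫ j)).left :=
      MorphismProperty.of_isPullback (P := @Surjective) ((IsPullback.of_hasPullback f (a ≫ j)).map (Over.forget _)) ‹_›
    haveI : LocallyOfFiniteType E.hom := by
      haveI : LocallyOfFiniteType f.left := by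
        haveI : LocallyOfFiniteType (f.left ≫ P.hom) := by rw [Over.w f]; infer_instance
        exact locallyOfFiniteType_of_comp f.left P.hom
      haveI : LocallyOfFiniteType (pullback.snd f (a ≫ j)).left :=
        MorphismProperty.of_isPullback (P := @LocallyOfFiniteType) ((IsPullback.of_hasPullback f (a ≫ j)).map (Over.forget _)) ‹_›
      haveI : LocallyOfFiniteType I₀.hom := inferInstanceAs (LocallyOfFiniteType (𝟙 _))
      rw [← Over.w (pullback.snd f (a ≫ j))]
      infer_instance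
    haveI : Nonempty E.left :=
      ⟨((pullback.snd f (a ≫ j)).left.surjective (IsLocalRing.closedPoint k)).choose⟩
    obtain ⟨e⟩ := RosenUnit.exists_point E
    obtain ⟨x, hx⟩ := hj _ (pullback.fst f (a ≫ j)) (pullback.snd f (a ≫ j) ≫ a) (by rw [pullback.condition, Category.assoc])
    refine ⟨e ≫ x, ?_⟩
    rw [Category.assoc, reassoc_of% hx, pullback.condition, ← Category.assoc,
      toUnit_unique (e ≫ pullback.snd f (a ≫ j)) (𝟙 _), Category.id_comp]
  choose x hx using hlift
  haveI : IsLocallyNoetherian H.left := LocallyOfFiniteType.isLocallyNoetherian H.hom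
  haveI : CompactSpace H.left := QuasiCompact.compactSpace_of_compactSpace H.hom
  haveI : IsNoetherian H.left := { }
  haveI : Finite (irreducibleComponents H.left) :=
    TopologicalSpace.NoetherianSpace.finite_irreducibleComponents.to_subtype
  let κ : (I₀ ⟶ 𝔾ₐ) → irreducibleComponents H.left := fun a =>
    ⟨irreducibleComponent (AVAmpleLib.pt (x a)), irreducibleComponent_mem_irreducibleComponents _⟩
  haveI : Infinite (I₀ ⟶ 𝔾ₐ) := by
    haveI : Nontrivial Γ(I₀.left, ⊤) :=
      (Scheme.ΓSpecIso (CommRingCat.of k)).commRingCatIsoToRingEquiv.toEquiv.nontrivial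
    refine Infinite.of_injective (fun c : k => (GaPts.ptOf (SemiAbLib.fnHom k (X := I₀) c) : I₀ ⟶ 𝔾ₐ)) fun c d e => ?_
    have e' := congrArg Red.gaFn e
    simp only [GaPts.gaFn_ptOf] at e'
    exact (SemiAbLib.fnHom k (X := I₀)).injective e'
  obtain ⟨a, b, hab, hκ⟩ := Finite.exists_ne_map_eq_of_infinite κ
  refine hab ((cancel_mono j).1 ?_)
  have hmem : AVAmpleLib.pt (x a * (x b)⁻¹) ∈ GrpField.Z0 H := by
    let τ : H ⟶ H := 𝟙 H * (toUnit H ≫ (x b)⁻¹)
    have hτ : ∀ y : I₀ ⟶ H, y ≫ τ = y * (x b)⁻¹ := fun y => by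
      rw [MonObj.comp_mul, Category.comp_id, ← Category.assoc, toUnit_unique (y ≫ toUnit H) (𝟙 _), Category.id_comp]
    have hC : _root_.IsPreconnected (τ.left '' irreducibleComponent (AVAmpleLib.pt (x b))) :=
      (isIrreducible_irreducibleComponent.isPreirreducible.isPreconnected).image _ τ.left.continuous.continuousOn
    rw [← GrpField.connectedComponent_unit]
    refine hC.subset_connectedComponent ⟨AVAmpleLib.pt (x b), mem_irreducibleComponent, ?_⟩ ⟨AVAmpleLib.pt (x a), ?_, ?_⟩
    · exact congr($(show x b ≫ τ = η[H] by rw [hτ, mul_inv_cancel, MonObj.one_eq_one]).left (IsLocalRing.closedPoint k))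
    · rw [show irreducibleComponent (AVAmpleLib.pt (x b)) = irreducibleComponent (AVAmpleLib.pt (x a)) from
        (congrArg Subtype.val hκ).symm]
      exact mem_irreducibleComponent
    · exact congr($(hτ (x a)).left (IsLocalRing.closedPoint k))
  rw [← hr] at hmem
  haveI : IsReduced I₀.left := inferInstanceAs (IsReduced (Spec (CommRingCat.of k)))
  obtain ⟨z, hz⟩ := AVAmpleLib.exists_lift_of_reduced n₀.left (x a * (x b)⁻¹).left (by
    rintro _ ⟨y, rfl⟩
    rw [show y = IsLocalRing.closedPoint k from @Subsingleton.elim (PrimeSpectrum k) _ _ _]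
    exact hmem)
  let z' : I₀ ⟶ N := Over.homMk z (by rw [← Over.w (x a * (x b)⁻¹), ← hz, Category.assoc, Over.w n₀])
  have hz' : z' ≫ n₀ = x a * (x b)⁻¹ := Over.OverMorphism.ext hz
  have h0 : (x a * (x b)⁻¹) ≫ h ≫ f = 1 := by
    rw [← hz', Category.assoc, ← Category.assoc n₀, AntiAffLib.kernel_comp hk, MonObj.comp_one]
  rw [MonObj.mul_comp, GrpObj.inv_comp, hx, hx, mul_inv_eq_one] at h0
  exact h0

/-- The multiplicative group is affine of finite type. -/
theorem props_gm : LocallyOfFiniteType (𝔾ₘ).hom ∧ IsAffine (𝔾ₘ).left := by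
  obtain ⟨w, -, -⟩ := TorusField.exists_DS_iso k ℤ
  haveI : IsIso w.inv.left := inferInstanceAs (IsIso ((Over.forget _).map w.inv))
  haveI : Algebra.FiniteType k (MonoidAlgebra k (Multiplicative ℤ)) := MonoidAlgebra.finiteType_iff_group_fg.2 inferInstance
  haveI : LocallyOfFiniteType (sp k (MonoidAlgebra k (Multiplicative ℤ))).hom :=
    (HasRingHomProperty.Spec_iff (P := @LocallyOfFiniteType)).2 (RingHom.finiteType_algebraMap.2 inferInstance)
  haveI : IsAffine (sp k (MonoidAlgebra k (Multiplicative ℤ))).left := inferInstanceAs (IsAffine (Spec (CommRingCat.of _)))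
  exact ⟨by rw [← Over.w w.inv]; infer_instance, IsAffine.of_isIso w.inv.left⟩

/-- The kernel of the universal torus quotient has no characters. -/
theorem no_char {T₀ : Over (Spec (CommRingCat.of k))}
    [GrpObj T₀] [LocallyOfFiniteType T₀.hom] (hT₀ : Red.IsTorus T₀) (q : G ⟶ T₀) [IsMonHom q]
    (huniv : IsUnivTorus q) {H : Over (Spec (CommRingCat.of k))} [GrpObj H] [Smooth H.hom] [QuasiCompact H.hom]
    [ConnectedSpace H.left] (h : H ⟶ G) [IsMonHom h] [IsClosedImmersion h.left] (hk : AlgGrp.IsKernel h q)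
    (hHn : AlgGrp.IsNormalHom h) (hc : ∃ l, l ≫ h = comm' G) (hant : ∃ l, l ≫ h = AntiAffLib.kerIncl G)
    {U : Over (Spec (CommRingCat.of k))} [GrpObj U] [LocallyOfFiniteType U.hom] [IsAffine U.left]
    (hax : ∀ (X : Over (Spec (CommRingCat.of k))) [GrpObj X] [LocallyOfFiniteType X.hom] [IsReduced X.left]
      [PreconnectedSpace X.left] (F : G ⊗ X ⟶ U), lift (𝟙 G) (1 : G ⟶ X) ≫ F = 1 →
        lift (1 : X ⟶ G) (𝟙 X) ≫ F = 1 → F = 1)
    (hgaU : ∀ g₁ : 𝔾ₐ ⟶ U, g₁ = toUnit _ ≫ η[𝔾ₐ] ≫ g₁)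
    (ψ : H ⟶ U) [IsMonHom ψ] : ψ = 1 := by
  haveI : LocallyOfFiniteType G.hom := inferInstance
  haveI : Mono h := Over.mono_of_mono_left h
  haveI : IsReduced H.left := AlgSpLib.isReduced_of_smooth H.hom
  haveI : IsReduced G.left := AlgSpLib.isReduced_of_smooth G.hom
  -- the character is invariant under conjugation
  obtain ⟨z, hz⟩ := hHn (G ⊗ H) (fst G H) (snd G H)
  have hF : z ≫ ψ = snd G H ≫ ψ := by
    rw [← mul_inv_eq_one]
    refine hax _ _ ?_ ?_
    · have e1 : lift (𝟙 G) (1 : G ⟶ H) ≫ z = 1 := by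
        rw [← cancel_mono h, Category.assoc, ← hz]
        simp only [MonObj.comp_mul, GrpObj.comp_inv, lift_fst, lift_snd_assoc, MonObj.one_comp, mul_one,
          mul_inv_cancel]
      rw [MonObj.comp_mul, GrpObj.comp_inv, reassoc_of% e1, lift_snd_assoc, MonObj.one_comp, mul_inv_cancel]
    · have e1 : lift (1 : H ⟶ G) (𝟙 H) ≫ z = 𝟙 H := by
        rw [← cancel_mono h, Category.assoc, ← hz]
        simp only [MonObj.comp_mul, GrpObj.comp_inv, lift_fst, lift_snd_assoc, Category.id_comp, one_mul, inv_one,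
          mul_one]
      rw [MonObj.comp_mul, GrpObj.comp_inv, reassoc_of% e1, lift_snd_assoc, Category.id_comp, mul_inv_cancel]
  obtain ⟨K, _, k₀, hk₀, hk₀c, hkk, -⟩ := AntiAffLib.exists_kernel ψ
  haveI := hk₀; haveI := hk₀c
  haveI : Mono k₀ := Over.mono_of_mono_left k₀
  let n : K ⟶ G := k₀ ≫ h
  haveI : IsClosedImmersion n.left := inferInstanceAs (IsClosedImmersion (k₀.left ≫ h.left))
  have hnq : n ≫ q = 1 := by simp only [n, Category.assoc, AntiAffLib.kernel_comp hk, MonObj.comp_one]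
  have hn : AlgGrp.IsNormalHom n := by
    intro S g m
    have h1 : (lift g (m ≫ k₀) ≫ z) ≫ ψ = 1 := by
      rw [Category.assoc, hF, lift_snd_assoc, Category.assoc, AntiAffLib.kernel_comp hkk, MonObj.comp_one]
    obtain ⟨l, hl⟩ := AntiAffLib.exists_lift_kernel hkk _ h1
    refine ⟨l, ?_⟩
    rw [← Category.assoc l, hl, Category.assoc, ← hz]
    simp only [MonObj.comp_mul, GrpObj.comp_inv, lift_fst, lift_snd_assoc, Category.assoc, n]
  have hlc : ∃ l, l ≫ n = comm' G := by
    obtain ⟨lc, hlc⟩ := hc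
    have h1 : lc ≫ ψ = 1 := by
      refine hax _ _ ?_ ?_
      · have e1 : lift (𝟙 G) (1 : G ⟶ G) ≫ lc = 1 := by
          rw [← cancel_mono h, Category.assoc, hlc]
          simp only [comm', MonObj.comp_mul, GrpObj.comp_inv, lift_fst, lift_snd, MonObj.one_comp, mul_one, inv_one,
            mul_inv_cancel]
        rw [reassoc_of% e1, MonObj.one_comp]
      · have e1 : lift (1 : G ⟶ G) (𝟙 G) ≫ lc = 1 := by
          rw [← cancel_mono h, Category.assoc, hlc]
          simp only [comm', MonObj.comp_mul, GrpObj.comp_inv, lift_fst, lift_snd, MonObj.one_comp, one_mul, inv_one,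
            mul_one, mul_inv_cancel]
        rw [reassoc_of% e1, MonObj.one_comp]
    obtain ⟨l, hl⟩ := AntiAffLib.exists_lift_kernel hkk lc h1
    exact ⟨l, by rw [← Category.assoc, hl, hlc]⟩
  have hla : ∃ l, l ≫ n = AntiAffLib.kerIncl G := by
    obtain ⟨la, hla⟩ := hant
    have e1 : η[AntiAffLib.ker G] ≫ la = η[H] := by
      rw [← cancel_mono h, Category.assoc, hla, IsMonHom.one_hom, IsMonHom.one_hom]
    have h1 : la ≫ ψ = 1 := AntiAffLib.comp_eq_one _ (by rw [reassoc_of% e1, IsMonHom.one_hom])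
    obtain ⟨l, hl⟩ := AntiAffLib.exists_lift_kernel hkk la h1
    exact ⟨l, by rw [← Category.assoc, hl, hla]⟩
  obtain ⟨l, hl⟩ := kernel_le hT₀ q huniv n hn hnq hlc hla (fun P _ _ f hfm hff hfs hkf j hjm hjc hj => by
    haveI := hfm; haveI := hff; haveI := hfs; haveI := hjm
    haveI := AntiAffLib.lfp_of_lft f
    let E := pullback f j
    have sq := (IsPullback.of_hasPullback f j).map (Over.forget _)
    haveI : Surjective (pullback.snd f j).left := MorphismProperty.of_isPullback (P := @Surjective) sq ‹_›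
    haveI : Flat (pullback.snd f j).left := MorphismProperty.of_isPullback (P := @Flat) sq hff
    haveI : LocallyOfFinitePresentation (pullback.snd f j).left :=
      MorphismProperty.of_isPullback (P := @LocallyOfFinitePresentation) sq ‹_›
    haveI : Epi (pullback.snd f j) := Groth.Agent.MonoQuot.epi_over _
    obtain ⟨x, hx⟩ := AntiAffLib.exists_lift_kernel hk (pullback.fst f j)
      (hj E (pullback.fst f j) (pullback.snd f j) pullback.condition)
    obtain ⟨g₁, hg₁⟩ := Groth.Agent.MonoQuot.exists_desc_over (pullback.snd f j) (x ≫ ψ) fun S a b e => by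
      have h1 : ((a ≫ x) * (b ≫ x)⁻¹) ≫ h ≫ f = 1 := by
        rw [MonObj.mul_comp, GrpObj.inv_comp]
        simp only [Category.assoc, reassoc_of% hx, pullback.condition]
        rw [reassoc_of% e, mul_inv_cancel]
      obtain ⟨t, ht⟩ := AntiAffLib.exists_lift_kernel hkf (((a ≫ x) * (b ≫ x)⁻¹) ≫ h) (by rw [Category.assoc, h1])
      have ht' : t ≫ k₀ = (a ≫ x) * (b ≫ x)⁻¹ := by
        rw [← cancel_mono h, Category.assoc]; exact ht
      have h2 := congrArg (· ≫ ψ) ht'
      simp only [Category.assoc, AntiAffLib.kernel_comp hkk, MonObj.comp_one, MonObj.mul_comp, GrpObj.inv_comp] at h2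
      exact mul_inv_eq_one.1 h2.symm
    have hg1 : η[𝔾ₐ] ≫ g₁ = η[U] := by
      let s : 𝟙_ (Over (Spec (CommRingCat.of k))) ⟶ E :=
        pullback.lift η[G] η[𝔾ₐ] (by rw [IsMonHom.one_hom, IsMonHom.one_hom])
      have hs : s ≫ x = η[H] := by
        rw [← cancel_mono h, Category.assoc, hx, pullback.lift_fst, IsMonHom.one_hom]
      have h3 := congrArg (s ≫ ·) hg₁
      simp only [s, pullback.lift_snd_assoc] at h3
      rw [h3, ← Category.assoc]
      show (s ≫ x) ≫ ψ = _
      rw [hs, IsMonHom.one_hom]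
    have hg0 : g₁ = 1 := by rw [hgaU g₁, hg1, Hom.one_def]
    rw [hg0, MonObj.comp_one] at hg₁
    obtain ⟨t, ht⟩ := AntiAffLib.exists_lift_kernel hkk x hg₁.symm
    have h4 : pullback.snd f j ≫ j = pullback.snd f j ≫ 1 := by
      rw [MonObj.comp_one, ← pullback.condition, ← hx, ← ht, Category.assoc, Category.assoc]
      show t ≫ k₀ ≫ h ≫ f = 1
      rw [← Category.assoc k₀ h f, AntiAffLib.kernel_comp hkf, MonObj.comp_one]
    have hj1 : j = 1 := (cancel_epi _).1 h4
    haveI : Mono j := Over.mono_of_mono_left j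
    have hab : ∀ a b : 𝟙_ (Over (Spec (CommRingCat.of k))) ⟶ 𝔾ₐ, a = b := fun a b => by
      rw [← cancel_mono j, hj1, MonObj.comp_one, MonObj.comp_one]
    haveI : Nontrivial Γ((𝟙_ (Over (Spec (CommRingCat.of k)))).left, ⊤) :=
      (Scheme.ΓSpecIso (CommRingCat.of k)).commRingCatIsoToRingEquiv.toEquiv.nontrivial
    have e' := congrArg Red.gaFn (hab (GaPts.ptOf 0) (GaPts.ptOf 1))
    simp only [GaPts.gaFn_ptOf] at e'
    exact zero_ne_one e') h (AntiAffLib.kernel_comp hk)
  have hl' : l ≫ k₀ = 𝟙 H := by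
    rw [← cancel_mono h, Category.assoc, Category.id_comp]; exact hl
  rw [← Category.id_comp ψ, ← hl', Category.assoc, AntiAffLib.kernel_comp hkk, MonObj.comp_one]

/-- The kernel of the universal map: connected, smooth and without characters. -/
theorem kernel_props {T₀ : Over (Spec (CommRingCat.of k))} [GrpObj T₀] [LocallyOfFiniteType T₀.hom]
    [IsAffine T₀.left] (hT₀ : Red.IsTorus T₀) (q : G ⟶ T₀) [IsMonHom q] (huniv : IsUnivTorus q) :
    ∃ (H : Over (Spec (CommRingCat.of k))) (_ : GrpObj H) (h : H ⟶ G), IsMonHom h ∧ AlgGrp.IsKernel h q ∧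
      ConnectedSpace H.left ∧ ∀ ψ : H ⟶ 𝔾ₘ, IsMonHom ψ → ψ = 1 := by
  haveI : LocallyOfFiniteType G.hom := inferInstance
  haveI : IsSeparated G.hom := GrpField.isSeparated_grp (G := G)
  obtain ⟨H, _, h, hh, hhc, hk, hHn⟩ := AntiAffLib.exists_kernel q
  haveI := hh; haveI := hhc
  haveI : Mono h := Over.mono_of_mono_left h
  haveI : LocallyOfFiniteType H.hom := by rw [← Over.w h]; infer_instance
  haveI : QuasiCompact H.hom := by rw [← Over.w h]; infer_instance
  haveI : IsSeparated H.hom := GrpField.isSeparated_grp (G := H)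
  -- the reduced identity component
  obtain ⟨C, _, c, hc, hcc, -, hcr, hCg, hCcpt⟩ := GrpField.exists_identity_component (G := H)
  haveI := hc; haveI := hcc; haveI := hCg; haveI := hCcpt
  haveI : LocallyOfFiniteType C.hom := by rw [← Over.w c]; infer_instance
  haveI : QuasiCompact C.hom := by rw [← Over.w c]; infer_instance
  obtain ⟨N, _, r₀, hr, hrc, hNs, hNr⟩ := DenseSubLib.exists_smooth_subgroup (A := C) ⊤
  haveI := hr; haveI := hrc; haveI := hNs
  haveI : Surjective r₀.left := ⟨fun y => by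
    rw [← Set.mem_range, hNr]
    exact ChevThmLib.forall_mem_of_points isClosed_closure
      (fun x => subset_closure (Set.mem_image_of_mem _ (Subgroup.mem_top x))) y⟩
  haveI : IrreducibleSpace C.left := GeometricallyIrreducible.irreducibleSpace_of_subsingleton C.hom
  haveI : ConnectedSpace N.left :=
    let e := r₀.left.isClosedEmbedding.isEmbedding.toHomeomorphOfSurjective r₀.left.surjective
    e.symm.surjective.connectedSpace e.symm.continuous
  haveI : IsReduced N.left := AlgSpLib.isReduced_of_smooth N.hom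
  let n : N ⟶ G := r₀ ≫ c ≫ h
  haveI : IsClosedImmersion n.left := inferInstanceAs (IsClosedImmersion (r₀.left ≫ c.left ≫ h.left))
  haveI : Mono n := Over.mono_of_mono_left n
  have hnq : n ≫ q = 1 := by
    simp only [n, Category.assoc, AntiAffLib.kernel_comp hk, MonObj.comp_one]
  haveI : IsClosedImmersion (r₀ ≫ c).left := inferInstanceAs (IsClosedImmersion (r₀.left ≫ c.left))
  have hrange : Set.range (r₀ ≫ c).left = GrpField.Z0 H := by
    rw [Over.comp_left]
    exact (Function.Surjective.range_comp r₀.left.surjective c.left).trans hcr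
  have hfac : ∀ {Z : Over (Spec (CommRingCat.of k))} (z : Z ⟶ H), IsReduced Z.left →
      Set.range z.left ⊆ GrpField.Z0 H → ∃ l, l ≫ n = z ≫ h := by
    intro Z z _ hz
    obtain ⟨l, hl⟩ := AVAmpleLib.exists_lift_of_reduced (r₀ ≫ c).left z.left (hrange ▸ hz)
    refine ⟨Over.homMk l (by rw [← Over.w z, ← hl, Category.assoc, Over.w (r₀ ≫ c)]), ?_⟩
    simp only [n, ← Category.assoc]
    congr 1
    rw [Category.assoc]
    exact Over.OverMorphism.ext hl
  haveI : IsReduced G.left := AlgSpLib.isReduced_of_smooth G.hom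
  haveI : IsReduced (N ⊗ G).left := by
    haveI : Smooth (N ⊗ G).hom := by rw [Over.tensorObj_hom]; infer_instance
    exact AlgSpLib.isReduced_of_smooth (N ⊗ G).hom
  haveI : IsReduced (G ⊗ G).left := by
    haveI : Smooth (G ⊗ G).hom := by rw [Over.tensorObj_hom]; infer_instance
    exact AlgSpLib.isReduced_of_smooth (G ⊗ G).hom
  have hn : AlgGrp.IsNormalHom n := by
    obtain ⟨z, hz⟩ := AntiAffLib.exists_lift_kernel hk (snd N G * (fst N G ≫ n) * (snd N G)⁻¹) (by
      rw [MonObj.mul_comp, MonObj.mul_comp, GrpObj.inv_comp, Category.assoc, hnq, MonObj.comp_one, mul_one,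
        mul_inv_cancel])
    obtain ⟨l, hl⟩ := hfac z inferInstance (CommSubLib.range_subset_component z (by
      rw [← cancel_mono h, Category.assoc, hz]
      simp only [MonObj.comp_mul, GrpObj.comp_inv, lift_snd, lift_fst_assoc, MonObj.one_comp,
        mul_one, mul_inv_cancel]))
    intro T g m
    refine ⟨lift m g ≫ l, ?_⟩
    rw [Category.assoc, hl, hz]
    simp only [MonObj.comp_mul, GrpObj.comp_inv, lift_snd, lift_fst_assoc]
  obtain ⟨zc, hzc⟩ := AntiAffLib.exists_lift_kernel hk (comm' G) (by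
    letI : CommGroup (G ⊗ G ⟶ T₀) := commGrpPts hT₀ _
    simp only [comm', MonObj.mul_comp, GrpObj.inv_comp]
    rw [mul_comm (fst G G ≫ q) (snd G G ≫ q), mul_inv_cancel_right, mul_inv_cancel])
  obtain ⟨lc, hlc⟩ := hfac zc inferInstance (CommSubLib.range_subset_component zc (by
    rw [← cancel_mono h, Category.assoc, hzc]
    simp only [comm', MonObj.comp_mul, GrpObj.comp_inv, lift_snd, lift_fst, MonObj.one_comp, one_mul, inv_one,
      mul_one, mul_inv_cancel]))
  obtain ⟨za, hza⟩ := AntiAffLib.exists_lift_kernel hk (AntiAffLib.kerIncl G) (AntiAffLib.comp_eq_one _ (by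
    rw [← Category.assoc, IsMonHom.one_hom, IsMonHom.one_hom]))
  haveI : IsReduced (AntiAffLib.ker G).left := by
    haveI : Smooth (AntiAffLib.ker G).hom := AntiAffLib.smooth_of_antiAff _
    exact AlgSpLib.isReduced_of_smooth (AntiAffLib.ker G).hom
  obtain ⟨la, hla⟩ := hfac za inferInstance (by
    haveI := AntiAffLib.connectedSpace_of_antiAff (AntiAffLib.ker G)
    rw [← GrpField.connectedComponent_unit]
    refine (isPreconnected_range za.left.continuous).subset_connectedComponent ⟨GrpField.unitPt _, ?_⟩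
    have e : η[AntiAffLib.ker G] ≫ za = η[H] := by
      rw [← cancel_mono h, Category.assoc, hza, IsMonHom.one_hom, IsMonHom.one_hom]
    exact congr($(e).left (IsLocalRing.closedPoint k)))
  have hle : ∀ {S : Over (Spec (CommRingCat.of k))} (a : S ⟶ G), a ≫ q = 1 → ∃ l, l ≫ n = a :=
    fun a ha => kernel_le hT₀ q huniv n hn hnq ⟨lc, hlc.trans hzc⟩ ⟨la, hla.trans hza⟩
      (fun P _ _ f hfm hff hfs hkf j hjm hjc hj => ga_finite h (r₀ ≫ c) hrange f hkf j hjc fun S e₁ e₂ he =>
        AntiAffLib.exists_lift_kernel hk e₁ (hj S e₁ e₂ he)) a ha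
  have hnh : ∃ l, l ≫ n = h := hle h (AntiAffLib.kernel_comp hk)
  obtain ⟨l, hl⟩ := hnh
  have hl' : l ≫ r₀ ≫ c = 𝟙 H := by
    rw [← cancel_mono h, Category.assoc, Category.id_comp]
    simpa only [n, Category.assoc] using hl
  haveI : IsSplitEpi (r₀ ≫ c) := IsSplitEpi.mk' ⟨l, hl'⟩
  haveI : Mono (r₀ ≫ c) := Over.mono_of_mono_left _
  haveI : IsIso (r₀ ≫ c) := isIso_of_mono_of_isSplitEpi _
  haveI : IsIso (r₀ ≫ c).left := inferInstanceAs (IsIso ((Over.forget _).map (r₀ ≫ c)))
  haveI : ConnectedSpace H.left := (r₀ ≫ c).left.surjective.connectedSpace (r₀ ≫ c).left.continuous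
  haveI : Smooth H.hom := by
    rw [← (IsIso.inv_comp_eq _).2 (Over.w (r₀ ≫ c)).symm]
    infer_instance
  obtain ⟨hgmlft, hgmaff⟩ := props_gm (k := k)
  haveI := hgmlft; haveI := hgmaff
  exact ⟨H, inferInstance, h, hh, hk, inferInstance, fun ψ hψ =>
    no_char hT₀ q huniv h hk hHn ⟨zc, hzc⟩ ⟨za, hza⟩ (fun X _ _ _ _ F => gm_axes F) ga_gm ψ⟩

end TorusQuotLib

end
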