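import Groth.Agent.SemiAbLib.GaSpec
import Groth.Agent.DiagRepLib.Scheme
import Groth.Prelude

/-!
Points of affine group schemes over a field with values in arbitrary schemes.
-/

set_option autoImplicit false
set_option linter.style.haveILetI false
set_option backward.isDefEq.respectTransparency false
set_option maxHeartbeats 1000000

noncomputable section

universe u

open CategoryTheory CategoryTheory.Limits MonoidalCategory CartesianMonoidalCategory AlgebraicGeometry WithConv
open scoped MonObj TensorProduct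
open Groth.Agent CoactBr

attribute [-instance] CategoryTheory.Hom.commGroup

namespace TorusQuotLib

variable {k : Type u} [Field k] {X Y : Over (Spec (CommRingCat.of k))} {A B : Type u} [CommRing A] [Algebra k A]
  [CommRing B] [Algebra k B]

/-- The global functions as an algebra over the field. -/
@[reducible] def fnAlg (X : Over (Spec (CommRingCat.of k))) : Algebra k Γ(X.left, ⊤) := (SemiAbLib.fnHom k (X := X)).toAlgebra

attribute [local instance] fnAlg

/-- The algebra map attached to a point. -/
def fnOf (f : X ⟶ sp k A) : A →ₐ[k] Γ(X.left, ⊤) :=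
  { ((Scheme.ΓSpecIso (CommRingCat.of A)).inv ≫ f.left.appTop).hom with
    commutes' := fun c => by
      show f.left.appTop ((Scheme.ΓSpecIso (CommRingCat.of A)).inv (algebraMap k A c)) = SemiAbLib.fnHom k c
      rw [← SemiAbLib.fnHom_natural k f c]
      congr 1
      exact congrArg (fun ψ => (ConcreteCategory.hom ψ) c)
        (Scheme.ΓSpecIso_inv_naturality (CommRingCat.ofHom (algebraMap k A))) }

theorem fnOf_ext {f g : X ⟶ sp k A} (h : fnOf f = fnOf g) : f = g := by
  haveI : IsAffine (sp k A).left := inferInstanceAs (IsAffine (Spec (CommRingCat.of A)))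
  refine Over.OverMorphism.ext (ext_of_isAffine ?_)
  rw [← cancel_epi (Scheme.ΓSpecIso (CommRingCat.of A)).inv]
  exact CommRingCat.hom_ext (congrArg AlgHom.toRingHom h)

theorem fnOf_comp (h : Y ⟶ X) (f : X ⟶ sp k A) (a : A) : fnOf (h ≫ f) a = h.left.appTop (fnOf f a) := by
  show (h ≫ f).left.appTop _ = _
  rw [Over.comp_left, Scheme.Hom.comp_appTop]
  rfl

theorem fnOf_comp_pt (f : X ⟶ sp k A) (φ : B →ₐ[k] A) (b : B) : fnOf (f ≫ pt φ) b = fnOf f (φ b) := by
  rw [fnOf_comp]
  show f.left.appTop ((pt φ).left.appTop ((Scheme.ΓSpecIso (CommRingCat.of B)).inv b)) = _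
  rw [pt_left]
  exact congrArg (f.left.appTop) (congrArg (fun ψ => (ConcreteCategory.hom ψ) b)
    (Scheme.ΓSpecIso_inv_naturality (CommRingCat.ofHom φ.toRingHom)).symm)

/-- An algebra map into the functions gives a point. -/
theorem exists_ptOf (φ : A →ₐ[k] Γ(X.left, ⊤)) : ∃ f : X ⟶ sp k A, fnOf f = φ := by
  refine ⟨Over.homMk (X.left.toSpecΓ ≫ Spec.map (CommRingCat.ofHom φ.toRingHom)) ?_, AlgHom.ext fun a => ?_⟩
  · show (X.left.toSpecΓ ≫ Spec.map _) ≫ Spec.map (CommRingCat.ofHom (algebraMap k A)) = X.hom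
    rw [Category.assoc, ← Spec.map_comp, ← CommRingCat.ofHom_comp,
      show φ.toRingHom.comp (algebraMap k A) = algebraMap k Γ(X.left, ⊤) from φ.comp_algebraMap,
      show CommRingCat.ofHom (algebraMap k Γ(X.left, ⊤)) = (Scheme.ΓSpecIso (CommRingCat.of k)).inv ≫ X.hom.appTop
        from rfl, Spec.map_comp, ← Category.assoc, ← Scheme.toSpecΓ_naturality, Category.assoc]
    simp
  · show (X.left.toSpecΓ ≫ Spec.map (CommRingCat.ofHom φ.toRingHom)).appTop
      ((Scheme.ΓSpecIso (CommRingCat.of A)).inv a) = φ a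
    rw [Scheme.Hom.comp_appTop, Scheme.toSpecΓ_appTop]
    exact congrArg (fun ψ => (ConcreteCategory.hom ψ) a)
      (((Category.assoc _ _ _).symm.trans (congrArg (· ≫ (Scheme.ΓSpecIso Γ(X.left, ⊤)).hom)
        (Scheme.ΓSpecIso_inv_naturality (CommRingCat.ofHom φ.toRingHom)).symm)).trans
        ((Category.assoc _ _ _).trans ((congrArg (_ ≫ ·) (Scheme.ΓSpecIso Γ(X.left, ⊤)).inv_hom_id).trans (Category.comp_id _))))

end TorusQuotLib

namespace TorusQuotLib

attribute [local instance] fnAlg

variable {k : Type u} [Field k] {X : Over (Spec (CommRingCat.of k))} {A : Type u} [CommRing A] [HopfAlgebra k A]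

/-- The functions of a product of points. -/
theorem fnOf_mul (f g : X ⟶ sp k A) :
    fnOf (f * g) = (Algebra.TensorProduct.lift (fnOf f) (fnOf g) fun _ _ => Commute.all _ _).comp
      (Bialgebra.comulAlgHom k A) := by
  obtain ⟨h, hh⟩ := exists_ptOf (Algebra.TensorProduct.lift (fnOf f) (fnOf g) fun _ _ => Commute.all _ _)
  have h1 : h ≫ pt (Algebra.TensorProduct.includeLeft : A →ₐ[k] A ⊗[k] A) = f := fnOf_ext (AlgHom.ext fun a => by
    rw [fnOf_comp_pt, hh, Algebra.TensorProduct.includeLeft_apply, Algebra.TensorProduct.lift_tmul, map_one, mul_one])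
  have h2 : h ≫ pt (Algebra.TensorProduct.includeRight : A →ₐ[k] A ⊗[k] A) = g := fnOf_ext (AlgHom.ext fun a => by
    rw [fnOf_comp_pt, hh, Algebra.TensorProduct.includeRight_apply, Algebra.TensorProduct.lift_tmul, map_one, one_mul])
  refine AlgHom.ext fun a => ?_
  conv_lhs => rw [← h1, ← h2, ← MonObj.comp_mul, DiagRep.pt_mul_conv, ← DiagRep.toConv_comul, fnOf_comp_pt, hh]
  rfl

end TorusQuotLib

end
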