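import Groth.Agent.TorusQuotLib.AffPts
import Groth.Agent.SemiAbLib.Lines
import Groth.Agent.S16113
import Groth.Agent.RosenUnitLib.Split
import Groth.Agent.AlbNormLib.Points
import Groth.Prelude.Def_GmPts

/-!
Homomorphisms to diagonalisable groups through their coordinates; the universal torus quotient.
-/

set_option autoImplicit false
set_option linter.style.haveILetI false
set_option backward.isDefEq.respectTransparency false
set_option maxHeartbeats 1000000

noncomputable section

universe u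

open CategoryTheory CategoryTheory.Limits MonoidalCategory CartesianMonoidalCategory AlgebraicGeometry WithConv
open scoped MonObj TensorProduct
open Groth.Agent CoactBr

attribute [-instance] CategoryTheory.Hom.commGroup

namespace TorusQuotLib

attribute [local instance] fnAlg

variable {k : Type u} [Field k] {M : Type} [AddCommGroup M] {X Y G : Over (Spec (CommRingCat.of k))}

local notation "D" => MonoidAlgebra k (Multiplicative M)

/-- The coordinates of a point of a diagonalisable group. -/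
def coordOf (f : X ⟶ sp k D) : Multiplicative M →* Γ(X.left, ⊤) :=
  ((fnOf f : D →ₐ[k] Γ(X.left, ⊤)) : D →* Γ(X.left, ⊤)).comp (MonoidAlgebra.of k (Multiplicative M))

theorem coordOf_apply (f : X ⟶ sp k D) (m : Multiplicative M) :
    coordOf f m = fnOf f (MonoidAlgebra.of k (Multiplicative M) m) := rfl

theorem coordOf_ext {f g : X ⟶ sp k D} (h : ∀ m, coordOf f m = coordOf g m) : f = g :=
  fnOf_ext (MonoidAlgebra.algHom_ext (fun m => h m) (Subsingleton.elim _ _))

theorem coordOf_comp (h : Y ⟶ X) (f : X ⟶ sp k D) (m : Multiplicative M) :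
    coordOf (h ≫ f) m = RosenUnit.pull h (coordOf f m) := fnOf_comp h f _

theorem exists_coordOf (c : Multiplicative M →* Γ(X.left, ⊤)) : ∃ f : X ⟶ sp k D, coordOf f = c := by
  obtain ⟨f, hf⟩ := exists_ptOf (MonoidAlgebra.lift k Γ(X.left, ⊤) (Multiplicative M) c)
  refine ⟨f, MonoidHom.ext fun m => ?_⟩
  rw [coordOf_apply, hf]
  simp

theorem coordOf_mul (f g : X ⟶ sp k D) (m : Multiplicative M) : coordOf (f * g) m = coordOf f m * coordOf g m := by
  rw [coordOf_apply, fnOf_mul, AlgHom.comp_apply]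
  have : Bialgebra.comulAlgHom k D (MonoidAlgebra.of k (Multiplicative M) m) =
      MonoidAlgebra.of k (Multiplicative M) m ⊗ₜ[k] MonoidAlgebra.of k (Multiplicative M) m := by
    simp [MonoidAlgebra.of_apply]
  rw [this, Algebra.TensorProduct.lift_tmul]
  rfl

theorem isUnit_coordOf (f : X ⟶ sp k D) (m : Multiplicative M) : IsUnit (coordOf f m) :=
  (Group.isUnit m).map (coordOf f)

theorem coordOf_one (m : Multiplicative M) : coordOf (1 : X ⟶ sp k D) m = 1 := by
  refine (isUnit_coordOf (1 : X ⟶ sp k D) m).mul_left_cancel (b := coordOf (1 : X ⟶ sp k D) m) (c := 1) ?_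
  rw [← coordOf_mul, one_mul, mul_one]

/-- A map is a homomorphism when its coordinates are characters. -/
theorem isMonHom_of_coord [GrpObj G] (f : G ⟶ sp k D) (h1 : ∀ m, RosenUnit.pull η[G] (coordOf f m) = 1)
    (h2 : ∀ m, RosenUnit.pull μ[G] (coordOf f m) =
      RosenUnit.pull (fst G G) (coordOf f m) * RosenUnit.pull (snd G G) (coordOf f m)) : IsMonHom f where
  one_hom := by
    refine coordOf_ext fun m => ?_
    rw [coordOf_comp, h1, MonObj.one_eq_one, coordOf_one]
  mul_hom := by
    refine coordOf_ext fun m => ?_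
    rw [MonObj.mul_eq_mul (sp k D), MonObj.comp_mul, tensorHom_fst, tensorHom_snd, coordOf_mul, coordOf_comp,
      coordOf_comp, coordOf_comp, h2]

theorem coord_hom [GrpObj G] (f : G ⟶ sp k D) [IsMonHom f] (m : Multiplicative M) :
    RosenUnit.pull η[G] (coordOf f m) = 1 ∧ RosenUnit.pull μ[G] (coordOf f m) =
      RosenUnit.pull (fst G G) (coordOf f m) * RosenUnit.pull (snd G G) (coordOf f m) := by
  refine ⟨?_, ?_⟩
  · rw [← coordOf_comp, IsMonHom.one_hom, MonObj.one_eq_one, coordOf_one]
  · rw [← coordOf_comp, IsMonHom.mul_hom, MonObj.mul_eq_mul (sp k D), MonObj.comp_mul, tensorHom_fst, tensorHom_snd,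
      coordOf_mul, coordOf_comp, coordOf_comp]

/-- Each coordinate of the identity is a character of a diagonalisable group. -/
theorem exists_char (m : Multiplicative M) :
    ∃ χ : sp k D ⟶ Red.Gm (Spec (CommRingCat.of k)), IsMonHom χ ∧ Red.gmFn χ = coordOf (𝟙 (sp k D)) m := by
  obtain ⟨u, hu⟩ := isUnit_coordOf (𝟙 (sp k D)) m
  let χ : sp k D ⟶ Red.Gm (Spec (CommRingCat.of k)) := GmPts.ptOfUnit u
  have hχ : Red.gmFn χ = coordOf (𝟙 (sp k D)) m := (GmPts.gmFn_ptOfUnit u).trans hu
  refine ⟨χ, ⟨?_, ?_⟩, hχ⟩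
  · refine GmPts.gmFn_injective ?_
    show Red.gmFn _ = Red.gmFn _
    rw [MonObj.one_eq_one (M := Red.Gm (Spec (CommRingCat.of k))), GmPts.gmFn_one, GmPts.gmFn_comp, hχ]
    exact (coord_hom (𝟙 (sp k D)) m).1
  · refine GmPts.gmFn_injective ?_
    show Red.gmFn _ = Red.gmFn _
    rw [MonObj.mul_eq_mul (Red.Gm (Spec (CommRingCat.of k))), MonObj.comp_mul, tensorHom_fst, tensorHom_snd,
      GmPts.gmFn_mul, GmPts.gmFn_comp, GmPts.gmFn_comp, GmPts.gmFn_comp, hχ]
    exact (coord_hom (𝟙 (sp k D)) m).2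

variable [IsAlgClosed k]

/-- The universal map of a connected group to a torus through characters. -/
theorem exists_universal (G : Over (Spec (CommRingCat.of k))) [GrpObj G] [Smooth G.hom] [QuasiCompact G.hom]
    [ConnectedSpace G.left] :
    ∃ (r : ℕ) (q : G ⟶ sp k (MonoidAlgebra k (Multiplicative (Fin r → ℤ)))), IsMonHom q ∧
      Function.Injective (coordOf q) ∧
      ∀ χ : Γ(G.left, ⊤), IsUnit χ → RosenUnit.pull η[G] χ = 1 → ∃ m, coordOf q m = χ := by
  haveI := AlbLib.geometricallyIntegral_grp G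
  haveI : IsIntegral G.left := GeometricallyIntegral.isIntegral_of_subsingleton G.hom
  haveI : IsSeparated G.hom := GrpField.isSeparated_grp (G := G)
  haveI : IsReduced G.left := AlgSpLib.isReduced_of_smooth G.hom
  obtain ⟨r, v, hv, hker⟩ := Groth.Agent.S16113.result k G
  let e : (Γ(G.left, ⊤))ˣ →* (Γ((𝟙_ (Over (Spec (CommRingCat.of k)))).left, ⊤))ˣ :=
    Units.map (RosenUnit.pull η[G] : Γ(G.left, ⊤) →* Γ((𝟙_ (Over (Spec (CommRingCat.of k)))).left, ⊤))
  have hce : ∀ c : kˣ, e (Units.map (SemiAbLib.fnHom k (X := G) : k →* Γ(G.left, ⊤)) c) =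
      Units.map (SemiAbLib.fnHom k (X := 𝟙_ (Over (Spec (CommRingCat.of k)))) : k →* _) c := fun c =>
    Units.ext (SemiAbLib.fnHom_natural k η[G] (c : k))
  have hinj : Function.Injective (SemiAbLib.fnHom k (X := 𝟙_ (Over (Spec (CommRingCat.of k))))) := by
    haveI : Nontrivial Γ((𝟙_ (Over (Spec (CommRingCat.of k)))).left, ⊤) :=
      (Scheme.ΓSpecIso (CommRingCat.of k)).commRingCatIsoToRingEquiv.toEquiv.nontrivial
    exact RingHom.injective _
  -- a normalised unit in each class
  have hsec : ∀ n, ∃! χ : (Γ(G.left, ⊤))ˣ, v χ = n ∧ e χ = 1 := by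
    intro n
    obtain ⟨w, rfl⟩ := hv n
    obtain ⟨c, hc⟩ : ∃ c : kˣ, e w = Units.map (SemiAbLib.fnHom k (X := 𝟙_ (Over (Spec (CommRingCat.of k)))) : k →* _) c := by
      obtain ⟨c, hc⟩ : ∃ c : k, SemiAbLib.fnHom k (X := 𝟙_ (Over (Spec (CommRingCat.of k)))) c = (e w).val := by
        refine ⟨(Scheme.ΓSpecIso (CommRingCat.of k)).hom (e w).val, ?_⟩
        show ((Scheme.ΓSpecIso (CommRingCat.of k)).hom ≫ (Scheme.ΓSpecIso (CommRingCat.of k)).inv ≫
          Scheme.Hom.appTop (𝟙 (Spec (CommRingCat.of k)))) (e w).val = _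
        simp
      have hc0 : c ≠ 0 := by
        rintro rfl
        rw [map_zero] at hc
        haveI : Nontrivial Γ((𝟙_ (Over (Spec (CommRingCat.of k)))).left, ⊤) :=
          (Scheme.ΓSpecIso (CommRingCat.of k)).commRingCatIsoToRingEquiv.toEquiv.nontrivial
        exact (e w).ne_zero hc.symm
      exact ⟨Units.mk0 c hc0, Units.ext hc.symm⟩
    have hk : ∀ c : kˣ, v (Units.map (SemiAbLib.fnHom k (X := G) : k →* Γ(G.left, ⊤)) c) = 1 := fun c => by
      rw [← MonoidHom.mem_ker, hker]; exact ⟨c, rfl⟩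
    refine ⟨w * (Units.map (SemiAbLib.fnHom k (X := G) : k →* Γ(G.left, ⊤)) c)⁻¹, ⟨?_, ?_⟩, ?_⟩
    · rw [map_mul, map_inv, hk, inv_one, mul_one]
    · rw [map_mul, map_inv, hce, hc, mul_inv_cancel]
    · rintro χ ⟨h1, h2⟩
      have : χ * w⁻¹ ∈ v.ker := by rw [MonoidHom.mem_ker, map_mul, map_inv, h1, mul_inv_cancel]
      rw [hker] at this
      obtain ⟨d, hd⟩ := this
      have hd' : Units.map (SemiAbLib.fnHom k (X := G) : k →* Γ(G.left, ⊤)) d = χ * w⁻¹ := hd
      have h3 := congrArg e hd'
      rw [hce, map_mul, map_inv, h2, one_mul, hc, ← map_inv] at h3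
      have h4 : d = c⁻¹ := Units.ext (hinj (congrArg Units.val h3))
      rw [← map_inv, ← h4, hd', mul_comm w, inv_mul_cancel_right]
  choose s hs hsu using hsec
  let c₀ : Multiplicative (Fin r → ℤ) →* Γ(G.left, ⊤) :=
    (Units.coeHom _).comp
      { toFun := s
        map_one' := (hsu 1 1 ⟨map_one _, map_one _⟩).symm
        map_mul' := fun a b => (hsu _ _ ⟨by rw [map_mul, (hs a).1, (hs b).1], by
          rw [map_mul, (hs a).2, (hs b).2, mul_one]⟩).symm }
  obtain ⟨q, hq⟩ := exists_coordOf c₀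
  have h1 : ∀ m, RosenUnit.pull η[G] (coordOf q m) = 1 := fun m => by
    rw [hq]; exact congrArg Units.val (hs m).2
  refine ⟨r, q, isMonHom_of_coord q h1 fun m => RosenUnit.unit_character (isUnit_coordOf q m) (h1 m), ?_, ?_⟩
  · intro a b h
    rw [hq] at h
    rw [← (hs a).1, ← (hs b).1, show s a = s b from Units.ext h]
  · intro χ hχ hχ1
    obtain ⟨u, rfl⟩ := hχ
    refine ⟨v u, ?_⟩
    rw [hq]
    exact congrArg Units.val (hsu _ u ⟨rfl, Units.ext (by show RosenUnit.pull η[G] (u : Γ(G.left, ⊤)) = 1; exact hχ1)⟩).symm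

/-- Distinct characters are linearly independent: the universal map is dominant. -/
theorem injective_fnOf (G : Over (Spec (CommRingCat.of k))) [GrpObj G] [Smooth G.hom] [LocallyOfFiniteType G.hom]
    (f : G ⟶ sp k D) [IsMonHom f] (hinj : Function.Injective (coordOf f)) : Function.Injective (fnOf f) := by
  let I₀ := 𝟙_ (Over (Spec (CommRingCat.of k)))
  haveI hnt : Nontrivial Γ(I₀.left, ⊤) :=
    (Scheme.ΓSpecIso (CommRingCat.of k)).commRingCatIsoToRingEquiv.toEquiv.nontrivial
  let ev : (I₀ ⟶ G) → Γ(G.left, ⊤) →+* k := fun g =>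
    (Scheme.ΓSpecIso (CommRingCat.of k)).hom.hom.comp (RosenUnit.pull g)
  have hevk : ∀ g c, ev g (SemiAbLib.fnHom k c) = c := by
    intro g c
    show (Scheme.ΓSpecIso (CommRingCat.of k)).hom (g.left.appTop (SemiAbLib.fnHom k c)) = c
    rw [SemiAbLib.fnHom_natural]
    show ((Scheme.ΓSpecIso (CommRingCat.of k)).inv ≫ Scheme.Hom.appTop (𝟙 (Spec (CommRingCat.of k))) ≫
      (Scheme.ΓSpecIso (CommRingCat.of k)).hom) c = c
    simp
  let φ : Multiplicative M → ((I₀ ⟶ G) →* k) := fun m =>
    { toFun := fun g => ev g (coordOf f m)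
      map_one' := by
        show (Scheme.ΓSpecIso (CommRingCat.of k)).hom (RosenUnit.pull (1 : I₀ ⟶ G) (coordOf f m)) = 1
        rw [← coordOf_comp, MonObj.one_comp, coordOf_one]
        exact map_one _
      map_mul' := fun g g' => by
        show (Scheme.ΓSpecIso (CommRingCat.of k)).hom (RosenUnit.pull (g * g') (coordOf f m)) = _
        rw [← coordOf_comp, MonObj.mul_comp, coordOf_mul, coordOf_comp, coordOf_comp]
        exact map_mul _ _ _ }
  have hφ : Function.Injective φ := by
    intro m m' h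
    refine hinj ?_
    obtain ⟨u, hu⟩ := isUnit_coordOf f m
    obtain ⟨u', hu'⟩ := isUnit_coordOf f m'
    rw [← hu, ← hu']
    congr 1
    refine (GmPts.equiv (S := Spec (CommRingCat.of k)) G).symm.injective ?_
    show GmPts.ptOfUnit u = GmPts.ptOfUnit u'
    haveI : IsReduced G.left := AlgSpLib.isReduced_of_smooth G.hom
    haveI : LocallyOfFiniteType (Red.Gm (Spec (CommRingCat.of k))).hom := by
      obtain ⟨w, -, -⟩ := TorusField.exists_DS_iso k ℤ
      haveI : IsIso w.inv.left := inferInstanceAs (IsIso ((Over.forget _).map w.inv))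
      haveI : Algebra.FiniteType k (MonoidAlgebra k (Multiplicative ℤ)) := MonoidAlgebra.finiteType_iff_group_fg.2 inferInstance
      haveI : LocallyOfFiniteType (sp k (MonoidAlgebra k (Multiplicative ℤ))).hom :=
        (HasRingHomProperty.Spec_iff (P := @LocallyOfFiniteType)).2 (RingHom.finiteType_algebraMap.2 inferInstance)
      rw [← Over.w w.inv]
      infer_instance
    haveI : IsSeparated (Red.Gm (Spec (CommRingCat.of k))).hom := GrpField.isSeparated_grp
    haveI : LocallyOfFiniteType ((GmPts.ptOfUnit u : G ⟶ Red.Gm _).left ≫ (Red.Gm (Spec (CommRingCat.of k))).hom) := by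
      rw [Over.w (GmPts.ptOfUnit u : G ⟶ Red.Gm _)]; infer_instance
    refine Over.OverMorphism.ext (ext_of_apply_eq (Red.Gm (Spec (CommRingCat.of k))).hom Set.univ
      isOpen_univ.isLocallyClosed dense_univ (fun x _ hx => ?_) ((Over.w _).trans (Over.w _).symm))
    let g : I₀ ⟶ G := Over.homMk (pointOfClosedPoint G.hom x hx) (pointOfClosedPoint_comp G.hom x hx)
    have hg : g ≫ GmPts.ptOfUnit u = g ≫ GmPts.ptOfUnit u' := GmPts.gmFn_injective (by
      show Red.gmFn _ = Red.gmFn _
      rw [GmPts.gmFn_comp, GmPts.gmFn_comp, GmPts.gmFn_ptOfUnit, GmPts.gmFn_ptOfUnit, hu, hu']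
      exact (Scheme.ΓSpecIso (CommRingCat.of k)).commRingCatIsoToRingEquiv.injective (DFunLike.congr_fun h g))
    have e := congr($(congrArg CommaMorphism.left hg) (IsLocalRing.closedPoint k))
    change (GmPts.ptOfUnit u : G ⟶ Red.Gm _).left (g.left _) = (GmPts.ptOfUnit u' : G ⟶ Red.Gm _).left (g.left _) at e
    rw [show g.left (IsLocalRing.closedPoint k) = x from pointOfClosedPoint_apply G.hom x hx _] at e
    exact e
  have hli := (linearIndependent_monoidHom (I₀ ⟶ G) k).comp φ hφ
  refine (injective_iff_map_eq_zero (fnOf f)).2 fun z hz => ?_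
  refine MonoidAlgebra.coeff_injective ?_
  refine linearIndependent_iff.1 hli _ (funext fun g => ?_)
  have h2 : ∀ w : D, ev g (fnOf f w) =
      Finsupp.linearCombination k (fun m => ((φ m : (I₀ ⟶ G) →* k) : (I₀ ⟶ G) → k)) w.coeff g := by
    intro w
    induction w using MonoidAlgebra.induction_linear with
    | zero => simp
    | add a b ha hb => simp [map_add, ha, hb, MonoidAlgebra.coeff_add]
    | single m c =>
      rw [← mul_one c, ← smul_eq_mul, ← MonoidAlgebra.smul_single]
      show ev g (fnOf f (c • MonoidAlgebra.of k (Multiplicative M) m)) = _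
      rw [map_smul, Algebra.smul_def, map_mul]
      erw [hevk g c]
      simp [Finsupp.linearCombination_single, φ, coordOf_apply]
  show Finsupp.linearCombination k (fun m => ((φ m : (I₀ ⟶ G) →* k) : (I₀ ⟶ G) → k)) z.coeff g = 0
  rw [← h2, hz, map_zero]

end TorusQuotLib

end
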